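import Mathlib
import Cfsg.Agent.Lib.FW.Hex
import Cfsg.Agent.Lib.HxS.HDefs

/-! HXS, package HEX, first part: the twelve families of root elements of a frame. -/

set_option autoImplicit false
set_option linter.unusedSectionVars false
set_option linter.unusedSimpArgs false

namespace CfsgLib.HxS

open Subgroup Cfsg CfsgLib.ClAut CfsgLib.Tech CfsgLib.SL2 CfsgLib.FW
open scoped MatrixGroups

universe u

section sl
variable {F : Type*} [Field F]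

theorem hx_neg (h : (2 : F) = 0) (a : F) : -a = a := neg_eq_of_add_eq_zero_left (by rw [← two_mul, h, zero_mul])

theorem hx_wv (h : (2 : F) = 0) : wv F * wv F = 1 := by
  rw [wv_mul_self]
  refine ext2 ?_ ?_ ?_ ?_ <;> simp [neg_ap, hx_neg h]

theorem hx_sq_inj (h : (2 : F) = 0) {a b : F} (e : a ^ 2 = b ^ 2) : a = b := by
  have : (a - b) ^ 2 = 0 := by linear_combination e + (b ^ 2 - a * b) * h
  exact sub_eq_zero.1 (pow_eq_zero_iff two_ne_zero |>.1 this)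

theorem hx_sqrt [Finite F] (h : (2 : F) = 0) (a : F) : ∃ b, b ^ 2 = a :=
  Finite.surjective_of_injective (f := fun b : F => b ^ 2) (fun _ _ => hx_sq_inj h) a

theorem hx_diag {s : SL(2, F)} {b c : F} (h1 : s * uu 1 * s⁻¹ = uu b)
    (h2 : s * (wv F * uu 1 * (wv F)⁻¹) * s⁻¹ = wv F * uu c * (wv F)⁻¹) : ∃ l, s = dg l := by
  rw [mul_inv_eq_iff_eq_mul] at h1 h2
  have e1 := congrArg (fun g : SL(2, F) => g 1 1) h1
  have e2 := congrArg (fun g : SL(2, F) => g 0 0) h2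
  simp only [mul_ap, inv_00, inv_01, inv_10, inv_11] at e1 e2
  simp [wv] at e1 e2
  have hd := det_eq s
  rw [e1, mul_zero, sub_zero] at hd
  refine ⟨Units.mk0 _ (left_ne_zero_of_mul_eq_one hd), ext2 ?_ ?_ ?_ ?_⟩ <;> simp [e1, e2]
  exact eq_inv_of_mul_eq_one_right hd

end sl

namespace Frame2

variable {G : Type u} [Group G] {E F : Type} [Field E] [Fintype E] [Field F] [Fintype F]
  (R : Frame2 G E F)

/-- the first reflection -/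
def n0 : G := R.f0 (wv E)

/-- the second reflection -/
def n5 : G := R.f5 (wv F)

/-- the rotation -/
def ρ : G := R.n0 * R.n5

/-- the root elements -/
def x (k : ZMod 12) (d : E × F) : G :=
  R.ρ ^ rotE k * (if Even k.val then R.f0 (uu d.1) else R.f5 (uu d.2)) * (R.ρ ^ rotE k)⁻¹

theorem x_zero (d : E × F) : R.x 0 d = R.f0 (uu d.1) := by
  rw [x, show rotE 0 = 0 from rfl, if_pos (by decide)]; simp

theorem x_five (d : E × F) : R.x 5 d = R.f5 (uu d.2) := by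
  rw [x, show rotE 5 = 0 from rfl, if_neg (by decide)]; simp

theorem x_add (k : ZMod 12) (d d' : E × F) : R.x k (d + d') = R.x k d * R.x k d' := by
  unfold x
  split_ifs <;> simp only [Prod.fst_add, Prod.snd_add, uu_add, map_mul] <;> group

theorem x_nil (k : ZMod 12) : R.x k 0 = 1 := by
  have := R.x_add k 0 0
  rwa [add_zero, left_eq_mul] at this

theorem x_inv (k : ZMod 12) (d : E × F) : (R.x k d)⁻¹ = R.x k d :=
  inv_eq_of_mul_eq_one_left (by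
    rw [← x_add, show d + d = 0 from Prod.ext (by rw [Prod.fst_add, ← two_mul, R.twoE, zero_mul]; rfl)
      (by rw [Prod.snd_add, ← two_mul, R.twoF, zero_mul]; rfl), x_nil])

theorem x_congr {k : ZMod 12} {d d' : E × F} (h1 : Even k.val → d.1 = d'.1)
    (h2 : ¬ Even k.val → d.2 = d'.2) : R.x k d = R.x k d' := by
  unfold x
  split_ifs with h
  · rw [h1 h]
  · rw [h2 h]

theorem x_inj_even {k : ZMod 12} (h : Even k.val) {d d' : E × F} (e : R.x k d = R.x k d') :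
    d.1 = d'.1 := by
  simp only [x, if_pos h, mul_left_inj, mul_right_inj] at e
  exact uu_injective (R.inj0 e)

theorem x_inj_odd {k : ZMod 12} (h : ¬ Even k.val) {d d' : E × F} (e : R.x k d = R.x k d') :
    d.2 = d'.2 := by
  simp only [x, if_neg h, mul_left_inj, mul_right_inj] at e
  exact uu_injective (R.inj5 e)

theorem n0_sq : R.n0 * R.n0 = 1 := by rw [n0, ← map_mul, hx_wv R.twoE, map_one]

theorem n5_sq : R.n5 * R.n5 = 1 := by rw [n5, ← map_mul, hx_wv R.twoF, map_one]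

theorem n0_inv : R.n0⁻¹ = R.n0 := inv_eq_of_mul_eq_one_left R.n0_sq

theorem n5_inv : R.n5⁻¹ = R.n5 := inv_eq_of_mul_eq_one_left R.n5_sq

theorem n0_n0 (g : G) : R.n0 * (R.n0 * g) = g := by rw [← mul_assoc, n0_sq, one_mul]

theorem n5_n5 (g : G) : R.n5 * (R.n5 * g) = g := by rw [← mul_assoc, n5_sq, one_mul]

theorem comm3 (s : SL(2, E)) (s' : SL(2, F)) : Commute (R.f0 s) (R.ρ⁻¹ * R.f5 s' * R.ρ) :=
  R.n3 s' _ ⟨s, rfl⟩

theorem comm2 (s : SL(2, E)) (s' : SL(2, F)) : Commute (R.f5 s') (R.ρ * R.f0 s * R.ρ⁻¹) := by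
  have := (R.comm3 s s').symm.map (MulAut.conj R.ρ)
  simpa [mul_assoc] using this

theorem ρ_three : R.ρ ^ 3 = R.n0 * (R.ρ⁻¹ * R.n5 * R.ρ) := by
  simp only [ρ, pow_succ, pow_zero, one_mul, mul_inv_rev, n0_inv, n5_inv, mul_assoc]

theorem ρ_cube (s : SL(2, E)) : R.ρ ^ 3 * R.f0 s * (R.ρ ^ 3)⁻¹ = R.n0 * R.f0 s * R.n0⁻¹ := by
  have h2 : Commute (R.f0 s) (R.ρ⁻¹ * R.n5 * R.ρ) := R.comm3 s _
  rw [ρ_three, mul_assoc R.n0, ← h2.eq]; group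

theorem ρ_cube' (s : SL(2, F)) : R.ρ ^ 3 * R.f5 s * (R.ρ ^ 3)⁻¹ = R.n5 * R.f5 s * R.n5⁻¹ := by
  have h1 : R.ρ ^ 3 = R.n5 * (R.ρ * R.n0 * R.ρ⁻¹) := by
    have h3 : Commute R.n5 (R.ρ * R.n0 * R.ρ⁻¹) := R.comm2 _ _
    rw [h3.eq]
    simp only [ρ, pow_succ, pow_zero, one_mul, mul_inv_rev, n0_inv, n5_inv, mul_assoc]
  have h2 : Commute (R.f5 s) (R.ρ * R.n0 * R.ρ⁻¹) := R.comm2 _ s
  rw [h1, mul_assoc R.n5, ← h2.eq]; group

theorem ρ_six : R.ρ ^ 6 = 1 := by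
  have h2 : Commute R.n0 (R.ρ⁻¹ * R.n5 * R.ρ) := R.comm3 _ _
  rw [show 6 = 3 + 3 from rfl, pow_add, ρ_three]
  nth_rw 1 [h2.eq]
  rw [mul_assoc, n0_n0, show R.ρ⁻¹ * R.n5 * R.ρ * (R.ρ⁻¹ * R.n5 * R.ρ) = R.ρ⁻¹ * (R.n5 * R.n5) * R.ρ by group, n5_sq,
    mul_one, inv_mul_cancel]

theorem shift (k : ZMod 12) (d : E × F) : R.ρ * R.x k d * R.ρ⁻¹ = R.x (k + 2) d := by
  obtain ⟨h1, h2⟩ := (by decide : ∀ k : ZMod 12, (Even (k + 2).val ↔ Even k.val) ∧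
    rotE (k + 2) = (rotE k + 1) % 6) k
  simp only [x, h1, h2, ← pow_eq_pow_mod _ R.ρ_six, pow_succ']
  group

theorem shift' (k : ZMod 12) (d : E × F) : R.ρ⁻¹ * R.x k d * R.ρ = R.x (k - 2) d := by
  nth_rw 1 [← sub_add_cancel k 2]
  rw [← shift]; group

theorem mem_X {k : ZMod 12} {g : G} : g ∈ R.X k ↔ ∃ d, R.x k d = g := by
  revert g
  refine ind12 (P := fun k => ∀ {g : G}, g ∈ R.X k ↔ ∃ d, R.x k d = g) ?_ ?_ (fun k h g => ?_) k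
  · intro g
    rw [R.X0]
    exact ⟨by rintro ⟨_, ⟨a, rfl⟩, rfl⟩; exact ⟨(a, 0), R.x_zero _⟩,
      by rintro ⟨d, rfl⟩; exact ⟨_, ⟨d.1, rfl⟩, (R.x_zero d).symm⟩⟩
  · intro g
    rw [R.X5]
    exact ⟨by rintro ⟨_, ⟨a, rfl⟩, rfl⟩; exact ⟨(0, a), R.x_five _⟩,
      by rintro ⟨d, rfl⟩; exact ⟨_, ⟨d.2, rfl⟩, (R.x_five d).symm⟩⟩
  · rw [← R.rot, mem_cj, h]
    refine exists_congr fun d => ?_
    rw [← shift]
    exact ⟨fun e => by rw [e, ρ, n0, n5]; group, fun e => by rw [← e, ρ, n0, n5]; group⟩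

theorem x_mem (k : ZMod 12) (d : E × F) : R.x k d ∈ R.X k := R.mem_X.2 ⟨d, rfl⟩

theorem x_six (d : E × F) : R.x 6 d = R.n0 * R.x 0 d * R.n0⁻¹ := by
  rw [x_zero, ← ρ_cube, x, if_pos (by decide)]; rfl

theorem x_eleven (d : E × F) : R.x 11 d = R.n5 * R.x 5 d * R.n5⁻¹ := by
  rw [x_five, ← ρ_cube', x, if_neg (by decide)]; rfl

theorem ρ_x (k : ZMod 12) (d : E × F) : cn R.ρ (R.x k d) = R.x (k + 2) d := R.shift k d

theorem ρ_x' (k : ZMod 12) (d : E × F) : cn R.ρ⁻¹ (R.x k d) = R.x (k - 2) d := by rw [cn_apply, inv_inv, shift']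

theorem n0_x (k : ZMod 12) (d : E × F) : cn R.n0 (R.x k d) = R.x (6 - k) d := by
  refine ind12 (P := fun k => cn R.n0 (R.x k d) = R.x (6 - k) d) (R.x_six d).symm ?_ (fun k h => ?_) k
  · have h2 : R.n0 = R.ρ * R.n5 := by rw [ρ, mul_assoc, n5_sq, mul_one]
    rw [h2, cn_mul, cn_apply R.n5, ← x_eleven, ρ_x]
    rfl
  · have h2 : R.n0 * R.ρ = R.ρ⁻¹ * R.n0 := by
      simp only [ρ, mul_inv_rev, n0_inv, n5_inv, mul_assoc, n0_n0, n0_sq, mul_one]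
    rw [← ρ_x, ← cn_mul, h2, cn_mul, h, ρ_x', sub_sub, add_comm k 2, ← sub_sub, sub_sub, add_comm]

theorem n5_x (k : ZMod 12) (d : E × F) : cn R.n5 (R.x k d) = R.x (4 - k) d := by
  have h2 : R.n5 = R.n0 * R.ρ := by rw [ρ, n0_n0]
  rw [h2, cn_mul, ρ_x, n0_x, show 6 - (k + 2) = 4 - k by ring]

theorem n3_x (k : ZMod 12) (d : E × F) : cn (R.ρ⁻¹ * R.n5 * R.ρ) (R.x k d) = R.x (-k) d := by
  rw [cn_mul, cn_mul, ρ_x, n5_x, ρ_x']
  congr 1; ring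

theorem n2_x (k : ZMod 12) (d : E × F) : cn (R.ρ * R.n0 * R.ρ⁻¹) (R.x k d) = R.x (10 - k) d := by
  rw [cn_mul, cn_mul, ρ_x', n0_x, ρ_x]
  congr 1; ring

theorem comm_conj {g : G} {k l k' l' : ZMod 12} (h1 : ∀ d, cn g (R.x k d) = R.x k' d)
    (h2 : ∀ d, cn g (R.x l d) = R.x l' d) (h : Comm (R.X k) (R.X l)) : Comm (R.X k') (R.X l') := fun a ha b hb => by
  obtain ⟨d, rfl⟩ := R.mem_X.1 ha
  obtain ⟨d', rfl⟩ := R.mem_X.1 hb
  rw [← h1, ← h2, ← map_mul, ← map_mul, h _ (R.x_mem k d) _ (R.x_mem l d')]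

theorem comm_rot {k l : ZMod 12} (h : Comm (R.X k) (R.X l)) : Comm (R.X (k + 2)) (R.X (l + 2)) :=
  R.comm_conj (R.ρ_x k) (R.ρ_x l) h

theorem comm_rot' {k l : ZMod 12} (h : Comm (R.X k) (R.X l)) : Comm (R.X (k - 2)) (R.X (l - 2)) :=
  R.comm_conj (R.ρ_x' k) (R.ρ_x' l) h

theorem c03 : Comm (R.X 0) (R.X 3) := fun a ha b hb => by
  obtain ⟨d, rfl⟩ := R.mem_X.1 ha
  obtain ⟨d', rfl⟩ := R.mem_X.1 hb
  rw [show R.x 3 d' = _ from (R.shift' 5 d').symm, x_five, x_zero]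
  exact R.comm3 _ _

theorem c25 : Comm (R.X 2) (R.X 5) := R.comm_rot R.c03
theorem c23 : Comm (R.X 2) (R.X 3) := R.comm_rot' R.c45
theorem c01 : Comm (R.X 0) (R.X 1) := R.comm_rot' R.c23
theorem c24 : Comm (R.X 2) (R.X 4) := R.comm_rot R.c02
theorem c12 : Comm (R.X 1) (R.X 2) := (R.comm_conj (R.n0_x 4) (R.n0_x 5) R.c45).symm
theorem c34 : Comm (R.X 3) (R.X 4) := R.comm_rot R.c12
theorem c14 : Comm (R.X 1) (R.X 4) := (R.comm_conj (R.n5_x 0) (R.n5_x 3) R.c03).symm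

theorem r35 : ∀ x ∈ R.X 5, ∀ y ∈ R.X 3, y⁻¹ * (x * y * x⁻¹) ∈ R.X 4 := fun a ha b hb => by
  obtain ⟨d, rfl⟩ := R.mem_X.1 ha
  obtain ⟨d', rfl⟩ := R.mem_X.1 hb
  obtain ⟨c, hc⟩ := R.mem_X.1 (R.r13 _ (R.x_mem 3 d) _ (R.x_mem 1 d'))
  have := congrArg (cn R.ρ) hc
  simp only [map_mul, map_inv, ρ_x] at this
  exact R.mem_X.2 ⟨c, this⟩

theorem norm_conj {g τ τ' : G} {k k' : ZMod 12} (h1 : ∀ d, cn g (R.x k d) = R.x k' d) (h2 : cn g τ = τ')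
    (h : ∀ y ∈ R.X k, cn τ y ∈ R.X k) : ∀ y ∈ R.X k', cn τ' y ∈ R.X k' := fun a ha => by
  obtain ⟨d, rfl⟩ := R.mem_X.1 ha
  obtain ⟨c, hc⟩ := R.mem_X.1 (h _ (R.x_mem k d))
  rw [← h1, ← h2, ← cn_cn, ← hc, h1]
  exact R.x_mem _ _

theorem char_conj {g τ τ' : G} {k k' : ZMod 12} {c : E × F} (h1 : ∀ d, cn g (R.x k d) = R.x k' d) (h2 : cn g τ = τ')
    (h3 : ∀ d, cn τ (R.x k d) = R.x k (c * d)) (d : E × F) : cn τ' (R.x k' d) = R.x k' (c * d) := by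
  rw [← h1, ← h2, ← cn_cn, h3, h1]

theorem n0_h0 (l : Eˣ) : cn R.n0 (R.f0 (dg l⁻¹)) = R.f0 (dg l) := by
  rw [cn_apply, n0, ← map_inv, ← map_mul, ← map_mul, wv_dg, inv_inv]

theorem n5_h5 (l : Fˣ) : cn R.n5 (R.f5 (dg l⁻¹)) = R.f5 (dg l) := by
  rw [cn_apply, n5, ← map_inv, ← map_mul, ← map_mul, wv_dg, inv_inv]

theorem n3_f0 (s : SL(2, E)) : cn (R.ρ⁻¹ * R.n5 * R.ρ) (R.f0 s) = R.f0 s := cn_of_comm (R.comm3 _ _).eq.symm

theorem n2_f5 (s : SL(2, F)) : cn (R.ρ * R.n0 * R.ρ⁻¹) (R.f5 s) = R.f5 s := cn_of_comm (R.comm2 _ _).eq.symm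

theorem f0_x3 (s : SL(2, E)) (d : E × F) : cn (R.f0 s) (R.x 3 d) = R.x 3 d := by
  rw [show R.x 3 d = _ from (R.shift' 5 d).symm, x_five]
  exact cn_of_comm (R.comm3 _ _)

theorem f5_x2 (s : SL(2, F)) (d : E × F) : cn (R.f5 s) (R.x 2 d) = R.x 2 d := by
  rw [show R.x 2 d = _ from (R.shift 0 d).symm, x_zero]
  exact cn_of_comm (R.comm2 _ _)

/-- the first torus normalises the second one -/
theorem exists_dg (l : Eˣ) (m : Fˣ) : ∃ m', cn (R.f0 (dg l)) (R.f5 (dg m)) = R.f5 (dg m') := by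
  have a5 : ∀ l, ∀ y ∈ R.X 5, cn (R.f0 (dg l)) y ∈ R.X 5 := fun l y => conj_mem_of_mem_normalizer (R.t05 l)
  have a11 : ∀ l, ∀ y ∈ R.X 11, cn (R.f0 (dg l)) y ∈ R.X 11 := fun l =>
    R.norm_conj (R.n3_x 1) (R.n3_f0 _) (R.norm_conj (R.n0_x 5) (R.n0_h0 l) (a5 _))
  have b5 : ∀ m, ∀ y ∈ R.X 5, cn (R.f5 (dg m)) y ∈ R.X 5 := fun m y hy => by
    obtain ⟨d, rfl⟩ := R.mem_X.1 hy
    rw [x_five, cn_apply, ← map_inv, ← map_mul, ← map_mul, dg_uu, ← R.x_five (0, _)]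
    exact R.x_mem _ _
  have b11 : ∀ y ∈ R.X 11, cn (R.f5 (dg m)) y ∈ R.X 11 := R.norm_conj (R.n5_x 5) (R.n5_h5 m) (b5 _)
  have x11 : ∀ d, R.x 11 d = R.f5 (wv F * uu d.2 * (wv F)⁻¹) := fun d => by
    rw [x_eleven, x_five, n5, map_mul, map_mul, map_inv]
  have l5 : ∀ y ∈ R.X 5, y ∈ R.f5.range := fun y hy => by
    obtain ⟨d, rfl⟩ := R.mem_X.1 hy
    exact ⟨_, (R.x_five d).symm⟩
  have l11 : ∀ y ∈ R.X 11, y ∈ R.f5.range := fun y hy => by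
    obtain ⟨d, rfl⟩ := R.mem_X.1 hy
    exact ⟨_, (x11 d).symm⟩
  have u5 : ∀ a, cn (R.f0 (dg l)) (R.f5 (uu a)) ∈ R.f5.range := fun a =>
    l5 _ (a5 l _ (by rw [← R.x_five (0, a)]; exact R.x_mem _ _))
  obtain ⟨s, hs⟩ := sl2_ind ((cn (R.f0 (dg l))).comp R.f5) R.f5.range u5 (by
    have := wv_braid (1 : Fˣ)
    rw [dg_one, one_mul] at this
    rw [← this, MonoidHom.comp_apply, map_mul, map_mul, map_mul, map_mul, ← x11 (0, _)]
    exact mul_mem (mul_mem (u5 _) (l11 _ (a11 l _ (R.x_mem _ _)))) (u5 _)) (dg m)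
  rw [MonoidHom.comp_apply] at hs
  have key : ∀ y, cn (R.f5 s) y = cn (R.f0 (dg l)) (cn (R.f5 (dg m)) (cn (R.f0 (dg l⁻¹)) y)) := fun y => by
    rw [hs, dg_inv, map_inv]
    simp only [cn_apply]
    group
  obtain ⟨b, hb⟩ := R.mem_X.1 (a5 l _ (b5 m _ (a5 l⁻¹ _ (R.x_mem 5 (0, 1)))))
  obtain ⟨c, hc⟩ := R.mem_X.1 (a11 l _ (b11 _ (a11 l⁻¹ _ (R.x_mem 11 (0, 1)))))
  rw [← key, x_five, x_five, cn_apply, ← map_inv, ← map_mul, ← map_mul] at hb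
  rw [← key, x11, x11, cn_apply, ← map_inv, ← map_mul, ← map_mul] at hc
  obtain ⟨m', e⟩ := hx_diag (R.inj5 hb).symm (R.inj5 hc).symm
  exact ⟨m', by rw [← hs, e]⟩

end Frame2

end CfsgLib.HxS
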