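import Mathlib
import Cfsg.Agent.Lib.HxS.HexA

/-! HXS, package HEX, second part: the group `X₀X₁X₃X₄X₂` and the action of `X₅` on it. -/

set_option autoImplicit false
set_option linter.unusedSectionVars false
set_option linter.unusedSimpArgs false

namespace CfsgLib.HxS

open Subgroup Cfsg CfsgLib.ClAut CfsgLib.Tech CfsgLib.SL2 CfsgLib.FW
open scoped MatrixGroups

universe u

namespace Frame2

variable {G : Type u} [Group G] {E F : Type} [Field E] [Fintype E] [Field F] [Fintype F]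
  (R : Frame2 G E F)

/-- the elements of the even root groups -/
def e (k : ZMod 12) (a : E) : G := R.x k (a, 0)

/-- the elements of the odd root groups -/
def o (k : ZMod 12) (b : F) : G := R.x k (0, b)

theorem e_add (k : ZMod 12) (a b : E) : R.e k (a + b) = R.e k a * R.e k b := by
  rw [e, e, e, ← x_add]; simp

theorem o_add (k : ZMod 12) (a b : F) : R.o k (a + b) = R.o k a * R.o k b := by
  rw [o, o, o, ← x_add]; simp

theorem e_add' (k : ZMod 12) (a b : E) (g : G) : R.e k a * (R.e k b * g) = R.e k (a + b) * g := by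
  rw [e_add, mul_assoc]

theorem o_add' (k : ZMod 12) (a b : F) (g : G) : R.o k a * (R.o k b * g) = R.o k (a + b) * g := by
  rw [o_add, mul_assoc]

theorem e_nil (k : ZMod 12) : R.e k 0 = 1 := R.x_nil k

theorem o_nil (k : ZMod 12) : R.o k 0 = 1 := R.x_nil k

theorem e_inv (k : ZMod 12) (a : E) : (R.e k a)⁻¹ = R.e k a := R.x_inv _ _

theorem o_inv (k : ZMod 12) (a : F) : (R.o k a)⁻¹ = R.o k a := R.x_inv _ _

theorem e_mem (k : ZMod 12) (a : E) : R.e k a ∈ R.X k := R.x_mem _ _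

theorem o_mem (k : ZMod 12) (a : F) : R.o k a ∈ R.X k := R.x_mem _ _

include R in
theorem addE (a : E) : a + a = 0 := by rw [← two_mul, R.twoE, zero_mul]

include R in
theorem addF (a : F) : a + a = 0 := by rw [← two_mul, R.twoF, zero_mul]

theorem x_eq_e {k : ZMod 12} (h : Even k.val) (d : E × F) : R.x k d = R.e k d.1 :=
  R.x_congr (fun _ => rfl) fun h' => (h' h).elim

theorem x_eq_o {k : ZMod 12} (h : ¬ Even k.val) (d : E × F) : R.x k d = R.o k d.2 :=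
  R.x_congr (fun h' => (h h').elim) fun _ => rfl

theorem ex_e {k : ZMod 12} (h : Even k.val) {g : G} (hg : g ∈ R.X k) : ∃ a, g = R.e k a := by
  obtain ⟨d, rfl⟩ := R.mem_X.1 hg
  exact ⟨_, R.x_eq_e h d⟩

theorem ex_o {k : ZMod 12} (h : ¬ Even k.val) {g : G} (hg : g ∈ R.X k) : ∃ a, g = R.o k a := by
  obtain ⟨d, rfl⟩ := R.mem_X.1 hg
  exact ⟨_, R.x_eq_o h d⟩

theorem n0_e (k : ZMod 12) (a : E) : cn R.n0 (R.e k a) = R.e (6 - k) a := R.n0_x _ _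

theorem n0_o (k : ZMod 12) (a : F) : cn R.n0 (R.o k a) = R.o (6 - k) a := R.n0_x _ _

theorem n5_e (k : ZMod 12) (a : E) : cn R.n5 (R.e k a) = R.e (4 - k) a := R.n5_x _ _

theorem n5_o (k : ZMod 12) (a : F) : cn R.n5 (R.o k a) = R.o (4 - k) a := R.n5_x _ _

theorem braid0 (l : Eˣ) : R.e 0 l * (R.n0 * R.e 0 ((l⁻¹ : Eˣ) : E) * R.n0) * R.e 0 l = R.f0 (dg l) * R.n0 := by
  nth_rw 2 [← R.n0_inv]
  simp only [e, x_zero, n0, ← map_inv, ← map_mul, wv_braid]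

theorem braid5 (l : Fˣ) : R.o 5 l * (R.n5 * R.o 5 ((l⁻¹ : Fˣ) : F) * R.n5) * R.o 5 l = R.f5 (dg l) * R.n5 := by
  nth_rw 2 [← R.n5_inv]
  simp only [o, x_five, n5, ← map_inv, ← map_mul, wv_braid]

theorem h0_e0 (l : Eˣ) (c : E) : cn (R.f0 (dg l)) (R.e 0 c) = R.e 0 ((l : E) ^ 2 * c) := by
  simp only [e, x_zero, cn_apply, ← map_inv, ← map_mul, dg_uu]

theorem h5_o5 (l : Fˣ) (c : F) : cn (R.f5 (dg l)) (R.o 5 c) = R.o 5 ((l : F) ^ 2 * c) := by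
  simp only [o, x_five, cn_apply, ← map_inv, ← map_mul, dg_uu]

/-- the elements of `X₀X₁X₃X₄X₂` -/
def kk (a : E) (b c : F) (d z : E) : G := R.e 0 a * R.o 1 b * R.o 3 c * R.e 4 d * R.e 2 z

theorem s10 (a : E) (b : F) (g : G) : R.o 1 b * (R.e 0 a * g) = R.e 0 a * (R.o 1 b * g) := by
  rw [← mul_assoc, ← R.c01 _ (R.e_mem 0 a) _ (R.o_mem 1 b), mul_assoc]

theorem s30 (a : E) (b : F) (g : G) : R.o 3 b * (R.e 0 a * g) = R.e 0 a * (R.o 3 b * g) := by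
  rw [← mul_assoc, ← R.c03 _ (R.e_mem 0 a) _ (R.o_mem 3 b), mul_assoc]

theorem s21 (a : E) (b : F) (g : G) : R.e 2 a * (R.o 1 b * g) = R.o 1 b * (R.e 2 a * g) := by
  rw [← mul_assoc, ← R.c12 _ (R.o_mem 1 b) _ (R.e_mem 2 a), mul_assoc]

theorem s41 (a : E) (b : F) (g : G) : R.e 4 a * (R.o 1 b * g) = R.o 1 b * (R.e 4 a * g) := by
  rw [← mul_assoc, ← R.c14 _ (R.o_mem 1 b) _ (R.e_mem 4 a), mul_assoc]

theorem s23 (a : E) (b : F) (g : G) : R.e 2 a * (R.o 3 b * g) = R.o 3 b * (R.e 2 a * g) := by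
  rw [← mul_assoc, R.c23 _ (R.e_mem 2 a) _ (R.o_mem 3 b), mul_assoc]

theorem s43 (a : E) (b : F) (g : G) : R.e 4 a * (R.o 3 b * g) = R.o 3 b * (R.e 4 a * g) := by
  rw [← mul_assoc, ← R.c34 _ (R.o_mem 3 b) _ (R.e_mem 4 a), mul_assoc]

theorem c52 (m : F) (a : E) : cn (R.o 5 m) (R.e 2 a) = R.e 2 a :=
  cn_of_comm (R.c25 _ (R.e_mem 2 a) _ (R.o_mem 5 m)).symm

theorem c54 (m : F) (a : E) : cn (R.o 5 m) (R.e 4 a) = R.e 4 a :=
  cn_of_comm (R.c45 _ (R.e_mem 4 a) _ (R.o_mem 5 m)).symm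

theorem d01 (a : E) (b : F) : cn (R.e 0 a) (R.o 1 b) = R.o 1 b :=
  cn_of_comm (R.c01 _ (R.e_mem 0 a) _ (R.o_mem 1 b))

theorem s20 (a b : E) (g : G) : R.e 2 b * (R.e 0 a * g) = R.e 0 a * (R.e 2 b * g) := by
  rw [← mul_assoc, ← R.c02 _ (R.e_mem 0 a) _ (R.e_mem 2 b), mul_assoc]

theorem s24 (a b : E) (g : G) : R.e 2 b * (R.e 4 a * g) = R.e 4 a * (R.e 2 b * g) := by
  rw [← mul_assoc, R.c24 _ (R.e_mem 2 b) _ (R.e_mem 4 a), mul_assoc]

theorem kk_uniq {a d z : E} {b c m : F} (e : R.kk a b c d z * R.o 5 m = 1) :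
    a = 0 ∧ b = 0 ∧ c = 0 ∧ d = 0 ∧ z = 0 ∧ m = 0 := by
  obtain ⟨h0, h1, h3, h4, h2, h5⟩ := R.uniq _ (R.e_mem 0 a) _ (R.o_mem 1 b) _ (R.o_mem 3 c) _
    (R.e_mem 4 d) _ (R.e_mem 2 z) _ (R.o_mem 5 m) e
  exact ⟨R.x_inj_even (by decide) (h0.trans (R.x_nil 0).symm),
    R.x_inj_odd (by decide) (h1.trans (R.x_nil 1).symm),
    R.x_inj_odd (by decide) (h3.trans (R.x_nil 3).symm),
    R.x_inj_even (by decide) (h4.trans (R.x_nil 4).symm),
    R.x_inj_even (by decide) (h2.trans (R.x_nil 2).symm),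
    R.x_inj_odd (by decide) (h5.trans (R.x_nil 5).symm)⟩

theorem r04_h4 : (∀ a b, cn (R.e 0 a) (R.e 4 b) = R.e 4 b * R.e 2 (a * b)) ∧
    ∀ (l : Eˣ) c, cn (R.f0 (dg l)) (R.e 4 c) = R.e 4 ((l⁻¹ : Eˣ) * c) := by
  have h1 : ∀ a b, ∃ c, cn (R.e 0 a) (R.e 4 b) = R.e 4 b * R.e 2 c := fun a b => by
    obtain ⟨c, hc⟩ := R.ex_e (by decide) (R.r04 _ (R.e_mem 0 a) _ (R.e_mem 4 b))
    exact ⟨c, eq_mul_of_inv_mul_eq hc⟩
  choose α hα using h1
  have c02 : ∀ a c, cn (R.e 0 a) (R.e 2 c) = R.e 2 c := fun a c =>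
    cn_of_comm (R.c02 _ (R.e_mem 0 a) _ (R.e_mem 2 c))
  have n2 : ∀ c, cn R.n0 (R.e 2 c) = R.e 4 c := R.n0_e 2
  have n4 : ∀ c, cn R.n0 (R.e 4 c) = R.e 2 c := R.n0_e 4
  have h2 : ∀ (l : Eˣ) c, cn (R.f0 (dg l)) (R.e 4 c) = R.e 4 (α ((l⁻¹ : Eˣ) : E) c) := fun l c => by
    obtain ⟨χ, hχ⟩ := R.ex_e (by decide) (conj_mem_of_mem_normalizer (R.t04 l) (R.e_mem 4 c))
    rw [← cn_apply] at hχ
    have h3 := congrArg (fun g => cn g (R.e 2 c)) (R.braid0 l)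
    simp only [cn_mul, c02, hα, map_mul, n2, n4, hχ] at h3
    have h5 : R.kk 0 0 0 (α ((l⁻¹ : Eˣ) : E) c + χ) (c + α l (α ((l⁻¹ : Eˣ) : E) c)) * R.o 5 0 = 1 := by
      rw [← mul_inv_eq_one, R.e_inv, ← mul_one (R.e 4 χ)] at h3
      simp only [mul_assoc, s24, e_add'] at h3
      simp only [kk, e_nil, o_nil, one_mul, mul_assoc, h3]
    rw [hχ]
    congr 1
    linear_combination (R.kk_uniq h5).2.2.2.1 - α _ c * R.twoE
  have h3 : ∀ a b, α a b = α b a := fun a b => by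
    have h4 := congrArg (cn R.n5) (hα a b)
    have m0 : cn R.n5 (R.e 0 a) = R.e 4 a := R.n5_e 0 a
    have m4 : cn R.n5 (R.e 4 b) = R.e 0 b := R.n5_e 4 b
    have m2 : ∀ c, cn R.n5 (R.e 2 c) = R.e 2 c := R.n5_e 2
    rw [cn_cn, map_mul, m0, m4, m2, cn_apply, R.e_inv, mul_assoc, ← mul_one (R.e 4 a * _), mul_assoc, mul_assoc,
      swap_of_cn (hα b a), ← mul_one (R.e 2 (α a b))] at h4
    simp only [mul_assoc, e_add', R.addE, e_nil, one_mul, mul_one] at h4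
    rw [← R.c02 _ (R.e_mem 0 b) _ (R.e_mem 2 _), mul_right_inj] at h4
    exact (R.x_inj_even (by decide) h4).symm
  have h4 : ∀ c, α 1 c = c := fun c => by
    have := h2 1 c
    rw [dg_one, map_one, cn_of_comm (by simp)] at this
    exact (R.x_inj_even (by decide) this).symm
  have h0 : ∀ c, α 0 c = 0 := fun c => by
    have := hα 0 c
    rw [e_nil, cn_of_comm (by simp), left_eq_mul, ← R.e_nil 2] at this
    exact R.x_inj_even (by decide) this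
  have h5 : ∀ a c, α a c = a * c := fun a c => by
    rcases eq_or_ne a 0 with rfl | ha
    · rw [h0, zero_mul]
    rcases eq_or_ne c 0 with rfl | hc
    · rw [h3, h0, mul_zero]
    have := h2 ((Units.mk0 a ha)⁻¹ * (Units.mk0 c hc)⁻¹) 1
    rw [dg_mul, map_mul, cn_mul, h2, h2, h3 _ 1, h3 _ 1, h4, h4] at this
    simpa [mul_comm] using R.x_inj_even (by decide) this
  exact ⟨fun a b => by rw [hα, h5], fun l c => by rw [h2, h5]⟩

theorem s40 (a b : E) (g : G) :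
    R.e 4 b * (R.e 0 a * g) = R.e 0 a * (R.e 4 b * (R.e 2 (a * b) * g)) := by
  have := R.r04_h4.1 a b
  rw [cn_apply] at this
  rw [← mul_assoc (R.e 4 b) (R.e 2 _), ← this]
  nth_rw 2 [← R.e_inv 0 a]
  nth_rw 1 [← R.e_inv 0 a]
  group

/-- `g` has the given coordinates modulo `X₂` -/
def Co (g : G) (a : E) (b c : F) (d : E) : Prop := ∃ z, g = R.kk a b c d z

/-- the relations with unknown coefficients -/
structure Rel (A B : F → E → F) (C Z : F → E → E) (D : F → F → F) (H Y β : F → F → E) : Prop where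
  h0 : ∀ m a, cn (R.o 5 m) (R.e 0 a) = R.kk a (A m a) (B m a) (C m a) (Z m a)
  h1 : ∀ m b, cn (R.o 5 m) (R.o 1 b) = R.kk 0 b (D m b) (H m b) (Y m b)
  h3 : ∀ m c, cn (R.o 5 m) (R.o 3 c) = R.o 3 c * R.e 4 (β m c)

theorem exists_rel : ∃ A B C Z D H Y β, R.Rel A B C Z D H Y β := by
  have h0 : ∀ m a, ∃ b c d z, cn (R.o 5 m) (R.e 0 a) = R.kk a b c d z := fun m a => by
    obtain ⟨b, hb, c, hc, d, hd, z, hz, e⟩ := R.r05 _ (R.o_mem 5 m) _ (R.e_mem 0 a)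
    obtain ⟨b, rfl⟩ := R.ex_o (by decide) hb
    obtain ⟨c, rfl⟩ := R.ex_o (by decide) hc
    obtain ⟨d, rfl⟩ := R.ex_e (by decide) hd
    obtain ⟨z, rfl⟩ := R.ex_e (by decide) hz
    exact ⟨b, c, d, z, e⟩
  have h1 : ∀ m b, ∃ c d z, cn (R.o 5 m) (R.o 1 b) = R.kk 0 b c d z := fun m b => by
    obtain ⟨c, hc, d, hd, z, hz, e⟩ := R.r15 _ (R.o_mem 5 m) _ (R.o_mem 1 b)
    obtain ⟨c, rfl⟩ := R.ex_o (by decide) hc
    obtain ⟨d, rfl⟩ := R.ex_e (by decide) hd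
    obtain ⟨z, rfl⟩ := R.ex_e (by decide) hz
    exact ⟨c, d, z, by rw [kk, e_nil, one_mul]; exact e⟩
  have h3 : ∀ m c, ∃ d, cn (R.o 5 m) (R.o 3 c) = R.o 3 c * R.e 4 d := fun m c => by
    obtain ⟨d, hd⟩ := R.ex_e (by decide) (R.r35 _ (R.o_mem 5 m) _ (R.o_mem 3 c))
    exact ⟨d, eq_mul_of_inv_mul_eq hd⟩
  choose A B C Z h0 using h0
  choose D H Y h1 using h1
  choose β h3 using h3
  exact ⟨A, B, C, Z, D, H, Y, β, h0, h1, h3⟩

variable {R}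

theorem kk0 (a : E) : R.e 0 a = R.kk a 0 0 0 0 := by simp [kk, e_nil, o_nil]

theorem kk1 (b : F) : R.o 1 b = R.kk 0 b 0 0 0 := by simp [kk, e_nil, o_nil]

theorem kk3 (c : F) : R.o 3 c = R.kk 0 0 c 0 0 := by simp [kk, e_nil, o_nil]

theorem kk4 (d : E) : R.e 4 d = R.kk 0 0 0 d 0 := by simp [kk, e_nil, o_nil]

theorem kk2 (z : E) : R.e 2 z = R.kk 0 0 0 0 z := by simp [kk, e_nil, o_nil]

theorem co0 (a : E) : R.Co (R.e 0 a) a 0 0 0 := ⟨0, kk0 a⟩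

theorem co1 (b : F) : R.Co (R.o 1 b) 0 b 0 0 := ⟨0, kk1 b⟩

theorem co3 (c : F) : R.Co (R.o 3 c) 0 0 c 0 := ⟨0, kk3 c⟩

theorem co4 (d : E) : R.Co (R.e 4 d) 0 0 0 d := ⟨0, kk4 d⟩

theorem co2 (z : E) : R.Co (R.e 2 z) 0 0 0 0 := ⟨z, kk2 z⟩

theorem Co.congr {g : G} {a d a' d' : E} {b c b' c' : F} (h : R.Co g a b c d) (e0 : a = a')
    (e1 : b = b') (e3 : c = c') (e4 : d = d') : R.Co g a' b' c' d' := by
  rwa [← e0, ← e1, ← e3, ← e4]

namespace Rel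

variable {A B : F → E → F} {C Z : F → E → E} {D : F → F → F} {H Y β : F → F → E}
  (r : R.Rel A B C Z D H Y β)
include r

theorem r13 (m c : F) : cn (R.o 3 m) (R.o 1 c) = R.o 1 c * R.e 2 (β m c) := by
  have h1 := congrArg (cn R.ρ⁻¹) (r.h3 m c)
  rw [cn_cn, map_mul] at h1
  simp only [o, e, ρ_x'] at h1
  exact h1

theorem s31 (m c : F) (g : G) :
    R.o 3 m * (R.o 1 c * g) = R.o 1 c * (R.o 3 m * (R.e 2 (β m c) * g)) := by
  rw [swap_of_cn (r.r13 m c), mul_assoc, s23]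

theorem kk_mul (a d z a' d' z' : E) (b c b' c' : F) : R.kk a b c d z * R.kk a' b' c' d' z' =
    R.kk (a + a') (b + b') (c + c') (d + d') (z + z' + a' * d + β c b') := by
  rw [← mul_one (_ * _), ← mul_one (R.kk (a + a') _ _ _ _)]
  simp only [kk, mul_assoc, s10, s30, s21, s41, s23, s43, s20, s24, s40, r.s31, e_add', o_add']
  congr 6
  ring

theorem kk_inj {a d z a' d' z' : E} {b c b' c' : F} (e : R.kk a b c d z = R.kk a' b' c' d' z') :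
    a = a' ∧ b = b' ∧ c = c' ∧ d = d' ∧ z = z' := by
  have h1 := congrArg (· * R.kk (-a') (-b') (-c') (-d') (-(z' + -a' * d' + β c' (-b'))) * R.o 5 0) e
  simp only [r.kk_mul] at h1
  obtain ⟨h0, h5, h3, h4, h2, -⟩ := R.kk_uniq (h1.trans (by
    rw [show z' + -(z' + -a' * d' + β c' (-b')) + -a' * d' + β c' (-b') = 0 by ring]
    simp [kk, e_nil, o_nil]))
  rw [add_neg_eq_zero] at h0 h5 h3 h4
  subst h0 h5 h3 h4
  exact ⟨rfl, rfl, rfl, rfl, by linear_combination h2⟩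

theorem co_mul {g g' : G} {a d a' d' : E} {b c b' c' : F} (h : R.Co g a b c d)
    (h' : R.Co g' a' b' c' d') : R.Co (g * g') (a + a') (b + b') (c + c') (d + d') := by
  obtain ⟨z, rfl⟩ := h
  obtain ⟨z', rfl⟩ := h'
  exact ⟨_, r.kk_mul ..⟩

theorem co_inj {g : G} {a d a' d' : E} {b c b' c' : F} (h : R.Co g a b c d)
    (h' : R.Co g a' b' c' d') : a = a' ∧ b = b' ∧ c = c' ∧ d = d' := by
  obtain ⟨z, rfl⟩ := h
  obtain ⟨z', e⟩ := h'
  obtain ⟨h0, h1, h3, h4, -⟩ := r.kk_inj e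
  exact ⟨h0, h1, h3, h4⟩

theorem β_add (m c c' : F) : β m (c + c') = β m c + β m c' := by
  have := (r.co_inj (r.co_mul (co3 (c + c')) (co4 (β m (c + c')))) (by
    rw [← r.h3, o_add, map_mul, r.h3, r.h3]
    exact r.co_mul (r.co_mul (co3 _) (co4 _)) (r.co_mul (co3 _) (co4 _)))).2.2.2
  simpa using this

theorem β_nil (m : F) : β m 0 = 0 := by simpa using r.β_add m 0 0

theorem β_add' (m m' c : F) : β (m + m') c = β m c + β m' c := by
  have := (r.co_inj (r.co_mul (co3 c) (co4 (β (m + m') c))) (by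
    rw [← r.h3, o_add, cn_mul, r.h3, map_mul, r.h3, c54]
    exact r.co_mul (r.co_mul (co3 _) (co4 _)) (co4 _))).2.2.2
  simpa using this

theorem β_zero (c : F) : β 0 c = 0 := by simpa using r.β_add' 0 0 c

theorem act5' (m : F) (a d z : E) (b c : F) : cn (R.o 5 m) (R.kk a b c d z) =
    R.kk a (b + A m a) (c + B m a + D m b) (d + C m a + H m b + β m c) (z + Z m a + Y m b + β (B m a) b) := by
  rw [kk]
  simp only [map_mul, r.h0, r.h1, r.h3, c52, c54]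
  rw [kk3, kk4, kk4, kk2]
  simp only [r.kk_mul, add_zero, r.β_nil]
  congr 1 <;> ring

theorem act5 (m : F) {g : G} {a d : E} {b c : F} (h : R.Co g a b c d) :
    R.Co (cn (R.o 5 m) g) a (b + A m a) (c + B m a + D m b) (d + C m a + H m b + β m c) := by
  obtain ⟨z, rfl⟩ := h
  exact ⟨_, r.act5' ..⟩

theorem actN {g : G} {a d : E} {b c : F} (h : R.Co g a b c d) : R.Co (cn R.n5 g) d c b a := by
  obtain ⟨z, rfl⟩ := h
  simp only [kk, map_mul, n5_e, n5_o]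
  exact (r.co_mul (r.co_mul (r.co_mul (r.co_mul (co4 a) (co3 b)) (co1 c)) (co0 d))
    (co2 z)).congr (by ring) (by ring) (by ring) (by ring)

theorem add0 (m : F) (a a' : E) : A m (a + a') = A m a + A m a' ∧ B m (a + a') = B m a + B m a' ∧
    C m (a + a') = C m a + C m a' ∧ Z m (a + a') = Z m a + Z m a' + a' * C m a + β (B m a) (A m a') := by
  have := r.h0 m (a + a')
  rw [e_add, map_mul, r.h0, r.h0, r.kk_mul] at this
  exact (r.kk_inj this.symm).2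

theorem add1 (m b b' : F) : D m (b + b') = D m b + D m b' ∧ H m (b + b') = H m b + H m b' :=
  (r.co_inj ⟨_, r.h1 m (b + b')⟩ (by
    rw [o_add, map_mul]; exact r.co_mul ⟨_, r.h1 m b⟩ ⟨_, r.h1 m b'⟩)).2.2

theorem zero0 (a : E) : A 0 a = 0 ∧ B 0 a = 0 ∧ C 0 a = 0 ∧ Z 0 a = 0 := by
  have := r.h0 0 a
  rw [o_nil, cn_of_comm (by simp), kk0] at this
  exact (r.kk_inj this.symm).2

theorem nil0 (m : F) : A m 0 = 0 ∧ B m 0 = 0 ∧ C m 0 = 0 := by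
  have := r.add0 m 0 0
  simp only [add_zero, left_eq_add] at this
  exact ⟨this.1, this.2.1, this.2.2.1⟩

theorem comp0 (m m' : F) (a : E) : B (m + m') a = B m' a + B m a + D m (A m' a) ∧
    C (m + m') a = C m' a + C m a + H m (A m' a) + β m (B m' a) ∧
    Z (m + m') a = Z m' a + Z m a + Y m (A m' a) + β (B m a) (A m' a) := by
  have := r.h0 (m + m') a
  rw [o_add, cn_mul, r.h0, r.act5'] at this
  exact (r.kk_inj this.symm).2.2

theorem Y_eq (m b : F) : Y m b = H b m := by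
  have h1 := congrArg (cn R.n0) (r.h1 m b)
  have n5 : cn R.n0 (R.o 5 m) = R.o 1 m := R.n0_o 5 m
  have n1 : cn R.n0 (R.o 1 b) = R.o 5 b := R.n0_o 1 b
  have n3 : ∀ c, cn R.n0 (R.o 3 c) = R.o 3 c := R.n0_o 3
  have n4 : ∀ c, cn R.n0 (R.e 4 c) = R.e 2 c := R.n0_e 4
  have n2 : ∀ c, cn R.n0 (R.e 2 c) = R.e 4 c := R.n0_e 2
  rw [cn_cn, n5, n1, kk, e_nil, one_mul] at h1
  simp only [map_mul, n1, n3, n4, n2] at h1
  have h2 := r.h1 b m
  rw [kk, e_nil, one_mul] at h2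
  rw [cn_apply, mul_assoc (R.o 5 b), mul_assoc (R.o 5 b), ← inv_mul_eq_iff_eq_mul] at h1
  rw [cn_apply, mul_assoc (R.o 1 m), mul_assoc (R.o 1 m), ← inv_mul_eq_iff_eq_mul] at h2
  have h3 : R.o 3 (D m b) * R.e 2 (H m b) * R.e 4 (Y m b) * (R.o 3 (D b m) * R.e 4 (H b m) * R.e 2 (Y b m)) = 1 := by
    rw [← h1, ← h2]
    simp only [o_inv, mul_assoc, o_add', R.addF, o_nil, one_mul, ← o_add]
  have h4 := (r.co_inj (r.co_mul (r.co_mul (r.co_mul (co3 (D m b)) (co2 (H m b))) (co4 (Y m b)))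
    (r.co_mul (r.co_mul (co3 (D b m)) (co4 (H b m))) (co2 (Y b m)))) (by rw [h3, ← R.e_nil 2]; exact co2 0)).2.2.2
  linear_combination h4 - H b m * R.twoE

theorem braid_five (l : Fˣ) (c : E) : cn (R.f5 (dg l)) (R.e 0 c) = R.e 0 (C ((l⁻¹ : Fˣ) : F) c) ∧
    B ((l⁻¹ : Fˣ) : F) c = A l (C ((l⁻¹ : Fˣ) : F) c) := by
  obtain ⟨χ, hχ⟩ := R.ex_e (by decide) (conj_mem_of_mem_normalizer (R.t50 l) (R.e_mem 0 c))
  rw [← cn_apply] at hχ
  have h1 := congrArg (fun g => cn g (R.e 4 c)) (R.braid5 l)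
  have h3 : cn R.n5 (R.e 4 c) = R.e 0 c := R.n5_e 4 _
  simp only [cn_mul, c54, h3, hχ] at h1
  obtain ⟨h4, h5, -⟩ := r.co_inj (r.act5 l (r.actN ⟨_, r.h0 ((l⁻¹ : Fˣ) : F) c⟩)) (h1 ▸ co0 _)
  exact ⟨by rw [h4, hχ], by linear_combination h5 - A l _ * R.twoF⟩

theorem braid_zero (l : Eˣ) (c : F) : cn (R.f0 (dg l)) (R.o 5 c) = R.o 5 (A c ((l⁻¹ : Eˣ) : E)) := by
  obtain ⟨χ, hχ⟩ := R.ex_o (by decide) (conj_mem_of_mem_normalizer (R.t05 l) (R.o_mem 5 c))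
  rw [← cn_apply] at hχ
  have h1 := congrArg (fun g => cn g (R.o 1 c)) (R.braid0 l)
  have h2 : ∀ c, cn R.n0 (R.o 5 c) = R.o 1 c := R.n0_o 5
  have h3 : ∀ c, cn R.n0 (R.o 1 c) = R.o 5 c := R.n0_o 1
  have h4 : ∀ a, cn (R.e 0 a) (R.o 5 c) = R.o 1 (A c a) * R.o 3 (B c a) * R.e 4 (C c a) *
      R.e 2 (Z c a) * R.o 5 c := fun a => by
    rw [cn_apply, e_inv, mul_assoc, ← mul_one (R.e 0 a * _), mul_assoc, mul_assoc, swap_of_cn (r.h0 c a)]
    simp only [kk, mul_assoc, e_add', R.addE, e_nil, one_mul, mul_one]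
  have h5 : ∀ c, cn R.n0 (R.o 3 c) = R.o 3 c := R.n0_o 3
  have h6 : ∀ c, cn R.n0 (R.e 4 c) = R.e 2 c := R.n0_e 4
  have h7 : ∀ c, cn R.n0 (R.e 2 c) = R.e 4 c := R.n0_e 2
  simp only [cn_mul, d01, h4, hχ, h3] at h1
  simp only [map_mul (cn R.n0), h2, h3, h5, h6, h7] at h1
  rw [hχ]
  generalize A c _ = a at h1 ⊢
  generalize B c _ = b₃ at h1
  generalize C c _ = b₂ at h1
  generalize Z c _ = b₄ at h1
  obtain ⟨z, hz⟩ := r.co_mul (r.co_mul (r.co_mul (r.co_mul (r.co_mul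
    (r.act5 a (co0 (l : E))) (co3 b₃)) (co2 b₂)) (co4 b₄)) (co1 c)) (co0 (l : E))
  have h8 := (R.kk_uniq (m := a + χ) (by
    rw [← hz, ← mul_left_cancel_iff (a := (R.o 5 a)⁻¹), mul_one, cn_apply]
    rw [cn_apply, e_inv] at h1
    calc _ = (R.e 0 l * ((R.o 5 a)⁻¹ * R.o 3 b₃ * R.e 2 b₂ * R.e 4 b₄ * R.o 1 c) * R.e 0 l) *
        R.o 5 (a + χ) := by group
      _ = _ := by rw [o_inv, h1, ← o_add, add_left_comm, R.addF, add_zero])).2.2.2.2.2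
  congr 1
  linear_combination h8 - a * R.twoF

end Rel

end Frame2

end CfsgLib.HxS
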